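import Groth.Agent.ResProp.EF.K911.ProjCx
import Mathlib.CategoryTheory.Monoidal.Braided.Basic

/-!
# Projection formula with the pushforward on the left: `v N ⊗ M ≅ v (N ⊗ u M)` (helper911)
-/

set_option autoImplicit false

open CategoryTheory CategoryTheory.Limits MonoidalCategory HomologicalComplex

universe v₁ v₂ v₃ v₄ u₁ u₂ u₃ u₄

namespace Groth.Agent.ResProp.EF.K911

open Groth.Agent.PerfC Functor.LaxMonoidal Functor.OplaxMonoidal

variable {C : Type u₁} [Category.{v₁} C] {D : Type u₂} [Category.{v₂} D] [MonoidalCategory C] [MonoidalCategory D]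

section Proj

variable {u : C ⥤ D} [u.Monoidal] {v : D ⥤ C} (adj : u ⊣ v)

/-- the projection map -/
noncomputable def projMapR (N : D) (M : C) : v.obj N ⊗ M ⟶ v.obj (N ⊗ u.obj M) :=
  adj.homEquiv _ _ (δ u (v.obj N) M ≫ adj.counit.app N ▷ u.obj M)

/-- characterization -/
@[reassoc]
lemma map_projMapR (N : D) (M : C) :
    u.map (projMapR adj N M) ≫ adj.counit.app (N ⊗ u.obj M) = δ u (v.obj N) M ≫ adj.counit.app N ▷ u.obj M := by
  have h : u.map (projMapR adj N M) ≫ adj.counit.app (N ⊗ u.obj M) = (adj.homEquiv _ _).symm (projMapR adj N M) :=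
    (adj.homEquiv_symm_apply _ _ _).symm
  rw [h, projMapR, Equiv.symm_apply_apply]

@[reassoc]
lemma projMapR_nat₁ {N N' : D} (g : N ⟶ N') (M : C) :
    v.map g ▷ M ≫ projMapR adj N' M = projMapR adj N M ≫ v.map (g ▷ u.obj M) := by
  apply hom_ext_proj adj
  rw [Functor.map_comp, Category.assoc, map_projMapR, Functor.map_comp, Category.assoc, counit_nat adj,
    map_projMapR_assoc, ← Functor.OplaxMonoidal.δ_natural_left_assoc, ← comp_whiskerRight, ← comp_whiskerRight,
    counit_nat adj]

@[reassoc]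
lemma projMapR_nat₂ (N : D) {M M' : C} (f : M ⟶ M') :
    v.obj N ◁ f ≫ projMapR adj N M' = projMapR adj N M ≫ v.map (N ◁ u.map f) := by
  apply hom_ext_proj adj
  rw [Functor.map_comp, Category.assoc, map_projMapR, Functor.map_comp, Category.assoc, counit_nat adj,
    map_projMapR_assoc, ← Functor.OplaxMonoidal.δ_natural_right_assoc, whisker_exchange]
  rfl

/-- the projection map, natural in both variables -/
noncomputable def projTransR : v ⋙ curriedTensor C ⟶
    (curriedTensor D ⋙ (Functor.whiskeringLeft _ _ _).obj u) ⋙ (Functor.whiskeringRight _ _ _).obj v where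
  app N :=
    { app := fun M => projMapR adj N M
      naturality := fun _ _ f => projMapR_nat₂ adj N f }
  naturality N N' g := by
    ext M
    exact projMapR_nat₁ adj g M

@[simp]
lemma projTransR_app_app (N : D) (M : C) : ((projTransR adj).app N).app M = projMapR adj N M := rfl

/-- the projection formula -/
noncomputable def projIsoR (h : ∀ N M, IsIso (projMapR adj N M)) :
    v ⋙ curriedTensor C ≅
      (curriedTensor D ⋙ (Functor.whiskeringLeft _ _ _).obj u) ⋙ (Functor.whiskeringRight _ _ _).obj v :=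
  haveI : ∀ M, IsIso ((projTransR adj).app M) := fun M =>
    haveI : ∀ N, IsIso (((projTransR adj).app M).app N) := fun N => h M N
    NatIso.isIso_of_isIso_app _
  haveI : IsIso (projTransR adj) := NatIso.isIso_of_isIso_app _
  asIso (projTransR adj)

/-- comparison with the other side -/
lemma projMapR_eq [BraidedCategory C] [BraidedCategory D]
    (hu : ∀ X Y : C, u.map (β_ X Y).hom ≫ δ u Y X = δ u X Y ≫ (β_ (u.obj X) (u.obj Y)).hom)
    (hs : ∀ X Y : D, (β_ X Y).hom ≫ (β_ Y X).hom = 𝟙 _) (N : D) (M : C) :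
    projMapR adj N M = (β_ (v.obj N) M).hom ≫ projMap adj M N ≫ v.map (β_ (u.obj M) N).hom := by
  apply hom_ext_proj adj
  have h1 : (β_ (u.obj (v.obj N)) (u.obj M)).hom ≫ u.obj M ◁ adj.counit.app N =
      adj.counit.app N ▷ u.obj M ≫ (β_ N (u.obj M)).hom :=
    (BraidedCategory.braiding_naturality_left (adj.counit.app N) (u.obj M)).symm
  rw [map_projMapR, Functor.map_comp, Functor.map_comp, Category.assoc, Category.assoc, counit_nat adj,
    map_projMap_assoc, reassoc_of% (hu (v.obj N) M), reassoc_of% h1, hs, Category.comp_id]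

lemma isIso_projMapR [BraidedCategory C] [BraidedCategory D]
    (hu : ∀ X Y : C, u.map (β_ X Y).hom ≫ δ u Y X = δ u X Y ≫ (β_ (u.obj X) (u.obj Y)).hom)
    (hs : ∀ X Y : D, (β_ X Y).hom ≫ (β_ Y X).hom = 𝟙 _) (N : D) (M : C) (h : IsIso (projMap adj M N)) :
    IsIso (projMapR adj N M) := by
  rw [projMapR_eq adj hu hs]
  infer_instance

end Proj

section Cx

variable [Preadditive C] [Preadditive D] [MonoidalPreadditive C] [MonoidalPreadditive D]
  [∀ K₁ K₂ : CochainComplex C ℤ, CochainComplex.HasMapBifunctor K₁ K₂ (curriedTensor C)]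
  [∀ K₁ K₂ : CochainComplex D ℤ, CochainComplex.HasMapBifunctor K₁ K₂ (curriedTensor D)]
  {u : C ⥤ D} [u.Monoidal] [u.Additive] {v : D ⥤ C} [v.Additive] (adj : u ⊣ v)
  [∀ J : Type, PreservesColimitsOfShape (Discrete J) v]

/-- `v (N ⊗ u K) ≅ v N ⊗ K` -/
noncomputable def projCxR (h : ∀ N M, IsIso (projMapR adj N M)) :
    ((curriedTensor D).map₂CochainComplex ⋙
      (Functor.whiskeringLeft _ _ _).obj (u.mapHomologicalComplex (ComplexShape.up ℤ))) ⋙
      (Functor.whiskeringRight _ _ _).obj (v.mapHomologicalComplex (ComplexShape.up ℤ)) ≅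
    v.mapHomologicalComplex (ComplexShape.up ℤ) ⋙ (curriedTensor C).map₂CochainComplex :=
  Groth.Agent.Dcoh.CxProj.projIso (projIsoR adj h).symm

end Cx

end Groth.Agent.ResProp.EF.K911
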