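import Groth.Agent.ResProp.EF.K911.ProjComod
import Groth.Agent.ResProp.EF.K911.ProjR
import Groth.Agent.ResProp.EF.K276.Chart
import Groth.Agent.PerfB.BifCompare
import Groth.Agent.PerfC.TensorSymm

/-!
# Charts with a tensor product (helper911)

`TChart X` : a bifunctor `TC : C ⥤ C ⥤ C` corresponding to `TR A` under `X.us`, with the projection formula for complexes
`ul N ⊗ Ψ ≅ ul (us Ψ ⊗ N)`.  `comodTChart h : TChart (K276.chart h)`.
-/

set_option autoImplicit false
set_option linter.dupNamespace false
set_option linter.style.haveILetI false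

open CategoryTheory CategoryTheory.Limits Opposite TensorProduct MonoidalCategory HomologicalComplex

namespace Groth.Agent.ResProp.EF.K911

open EF56 K784.BC K784.PM K741.RP Groth.Agent.ResProp.EF.K294
open Groth.Agent.PerfB.RingKFlat Groth.Agent.PerfB Groth.Agent.PerfC

universe w v u

/-- a chart with a tensor product and the projection formula -/
structure TChart {A : Type u} [CommRing A] {C : Type v} [Category.{w} C] [Abelian C] (X : Chart A C) where
  /-- the tensor product -/
  TC : C ⥤ C ⥤ C
  add : TC.Additive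
  add_obj : ∀ M, (TC.obj M).Additive
  hmb : ∀ K₁ K₂ : CochainComplex C ℤ, CochainComplex.HasMapBifunctor K₁ K₂ TC
  data : BifCompare.Data TC (TR A) X.us X.us X.us
  proj : ∀ Ψ : CochainComplex C ℤ, X.ulC ⋙ TC.map₂CochainComplex.flip.obj Ψ ≅
    (TR A).map₂CochainComplex.obj (X.usC.obj Ψ) ⋙ X.ulC
  colim : ∀ F : C, PreservesColimitsOfSize.{u, u} (TC.flip.obj F)
  colim' : ∀ F : C, PreservesColimitsOfSize.{u, u} (TC.obj F)

section Symm

variable (A : Type u) [CommRing A]

/-- symmetry of the total tensor product, natural in the second variable -/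
noncomputable def symmTR (Ψ : CM A) : (TR A).map₂CochainComplex.flip.obj Ψ ≅ (TR A).map₂CochainComplex.obj Ψ :=
  NatIso.ofComponents (fun K => TensorSymm.symmCx (TR A) (fun M N => β_ N M)
    (fun f N => BraidedCategory.braiding_naturality_right N f)
    (fun M _ _ f => BraidedCategory.braiding_naturality_left f M) K Ψ)
    (fun f => TensorSymm.symmCx_naturality_left (TR A) (fun M N => β_ N M)
      (fun f N => BraidedCategory.braiding_naturality_right N f)
      (fun M _ _ f => BraidedCategory.braiding_naturality_left f M) f Ψ)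

end Symm

section Gen

variable {A : Type u} [CommRing A] {C : Type v} [Category.{w} C] [Abelian C] [MonoidalCategory C] [BraidedCategory C]
  [MonoidalPreadditive C] [∀ K₁ K₂ : CochainComplex C ℤ, CochainComplex.HasMapBifunctor K₁ K₂ (curriedTensor C)]

/-- a chart with a strong monoidal `us` and the projection formula -/
noncomputable def tchartOf (X : Chart A C) [X.us.Monoidal]
    (hul : ∀ J : Type, PreservesColimitsOfShape (Discrete J) X.ul)
    (hp : ∀ (N : ModuleCat.{u} A) (M : C), IsIso (projMapR X.adj N M))
    (h1 : ∀ F : C, PreservesColimitsOfSize.{u, u} (tensorLeft F)) : TChart X where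
  TC := curriedTensor C
  add := inferInstance
  add_obj := inferInstance
  hmb := inferInstance
  data :=
    { e := fun M N => (Functor.Monoidal.μIso X.us M N).symm
      nat₁ := fun {_ M'} f N => by
        change X.us.map (f ▷ N) ≫ Functor.OplaxMonoidal.δ X.us M' N =
          Functor.OplaxMonoidal.δ X.us _ N ≫ (X.us.map f ▷ X.us.obj N)
        simp
      nat₂ := fun M {_ N'} g => by
        change X.us.map (M ◁ g) ≫ Functor.OplaxMonoidal.δ X.us M N' =
          Functor.OplaxMonoidal.δ X.us M _ ≫ (X.us.obj M ◁ X.us.map g)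
        simp }
  proj := fun Ψ =>
    (NatIso.ofComponents (fun N => (((projCxR X.adj hp).app N).app Ψ).symm)
      (fun f => congr_app ((projCxR X.adj hp).inv.naturality f) Ψ) :
        X.ulC ⋙ (curriedTensor C).map₂CochainComplex.flip.obj Ψ ≅
          (TR A).map₂CochainComplex.flip.obj (X.usC.obj Ψ) ⋙ X.ulC) ≪≫
    Functor.isoWhiskerRight (symmTR A (X.usC.obj Ψ)) X.ulC
  colim := fun F => preservesColimits_of_natIso (BraidedCategory.tensorLeftIsoTensorRight F)
  colim' := h1

end Gen

section Comod

variable {A : NFᵒᵖ ⥤ CommRingCat.{u}} (h : GR A)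

theorem isIso_projMap_comod (M : Comod A) (N : ModuleCat.{u} (A.obj (op ⟨0⟩))) :
    IsIso (projMap (K554.pstAdj h) M N) := by
  haveI : Fact (GR A) := ⟨h⟩
  have h1 : IsIso ((vst A).map (projMap (K554.pstAdj h) M N)) := by
    rw [ConcreteCategory.isIso_iff_bijective]
    exact bijective_proj_comod h M N
  exact isIso_of_reflects_iso _ (vst A)

theorem isIso_projMapR_comod (M : Comod A) (N : ModuleCat.{u} (A.obj (op ⟨0⟩))) :
    IsIso (projMapR (K554.pstAdj h) N M) :=
  isIso_projMapR (K554.pstAdj h) (fun X Y => by
      change (vst A).map (β_ X Y).hom ≫ 𝟙 _ = 𝟙 _ ≫ (β_ ((vst A).obj X) ((vst A).obj Y)).hom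
      rw [Category.comp_id, Category.id_comp]
      rfl)
    (fun X Y => SymmetricCategory.symmetry X Y) N M (isIso_projMap_comod h M N)

/-- **the chart of a groupoid ring has a tensor product with projection formula** -/
noncomputable def comodTChart :
    @TChart.{u, u + 1, u} (A.obj (op ⟨0⟩)) _ (Comod A) _ (K276.comodPkg h).ab (K276.chart h) :=
  haveI : Fact (GR A) := ⟨h⟩
  letI iab := (K276.comodPkg h).ab
  letI im : (K276.chart h).us.Monoidal := monoidal_vst
  haveI i1 : @MonoidalPreadditive (Comod A) _ iab.toPreadditive _ := Groth.Agent.ResProp.EF.K911.monoidalPreadditive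
  haveI i2 : ∀ K₁ K₂ : CochainComplex (Comod A) ℤ, CochainComplex.HasMapBifunctor K₁ K₂ (curriedTensor (Comod A)) :=
    inferInstance
  haveI _i3 : PreservesColimitsOfSize.{u, u} (K554.pst h) := K554.pst_preservesColimits h
  haveI _i4 : PreservesColimitsOfSize.{0, 0} (K554.pst h) := preservesColimitsOfSize_shrink.{0, u, 0, u} _
  @tchartOf (A.obj (op ⟨0⟩)) _ (Comod A) _ iab _ _ i1 i2 (K276.chart h) im
    (fun J => (inferInstance : PreservesColimitsOfShape (Discrete J) (K554.pst h)))
    (fun N M => isIso_projMapR_comod h M N) (fun F => preservesColimits_tensorLeft F)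

end Comod

end Groth.Agent.ResProp.EF.K911
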