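import Groth.Agent.ResProp.EF.K741.ComodAb
import Mathlib.CategoryTheory.Monoidal.Subcategory
import Mathlib.LinearAlgebra.TensorProduct.Tower
import Mathlib.RingTheory.Flat.CategoryTheory


/-!
# The monoidal chart: `Comod A` is a symmetric monoidal category, `vst A` is strong monoidal (helper911)
-/

set_option autoImplicit false
set_option linter.dupNamespace false
set_option linter.style.haveILetI false

open CategoryTheory CategoryTheory.Limits Opposite TensorProduct MonoidalCategory

namespace Groth.Agent.ResProp.EF.K911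

open EF56 K784.BC K784.PM K741.RP

universe w v u

/-! ## base change and tensor products -/

section BC

/-- the tensor product of two base changes is a base change -/
theorem isBC_tensor {A B : Type u} [CommRing A] [CommRing B] {φ : A →+* B} {M N M' N' : Type u}
    [AddCommGroup M] [Module A M] [AddCommGroup N] [Module B N] [AddCommGroup M'] [Module A M']
    [AddCommGroup N'] [Module B N'] {f : M →+ N} {f' : M' →+ N'} (h : IsBC φ f) (h' : IsBC φ f')
    (F : M ⊗[A] M' →+ N ⊗[B] N') (hF : ∀ m m', F (m ⊗ₜ m') = f m ⊗ₜ f' m') : IsBC φ F := by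
  have hsm : ∀ (a : A) (x : M ⊗[A] M'), F (a • x) = φ a • F x := by
    intro a x
    induction x with
    | zero => rw [smul_zero, map_zero, smul_zero]
    | add x y hx hy => rw [smul_add, map_add, hx, hy, map_add, smul_add]
    | tmul m m' => rw [TensorProduct.smul_tmul', hF, hF, h.map_smul, TensorProduct.smul_tmul']
  refine IsBC.of_lift hsm fun Q _ _ g hg => ?_
  letI : Module A Q := Module.compHom Q φ
  -- for `m`, a semilinear map `M' → Q`
  have e1 : ∀ m : M, ∃! l : N' →ₗ[B] Q, ∀ m', l (f' m') = g (m ⊗ₜ m') := fun m =>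
    h'.existsUnique_lift (g.comp ((TensorProduct.mk A M M' m).toAddMonoidHom)) (fun a m' => by
      change g (m ⊗ₜ (a • m')) = φ a • g (m ⊗ₜ m')
      rw [TensorProduct.tmul_smul, hg])
  choose l hl hlu using e1
  obtain ⟨G, hG, hGu⟩ := h.existsUnique_lift (Q := N' →ₗ[B] Q)
    { toFun := l
      map_zero' := (hlu 0 0 fun m' => by rw [TensorProduct.zero_tmul, map_zero]; rfl).symm
      map_add' := fun x y => (hlu (x + y) (l x + l y) fun m' => by
        rw [TensorProduct.add_tmul, map_add, ← hl, ← hl]; rfl).symm }
    (fun a m => (hlu (a • m) (φ a • l m) fun m' => by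
      rw [← TensorProduct.smul_tmul', hg, ← hl]; rfl).symm)
  refine ⟨TensorProduct.lift G, fun x => ?_, fun G' hG' => ?_⟩
  · induction x with
    | zero => rw [map_zero, map_zero, map_zero]
    | add x y hx hy => rw [map_add, map_add, map_add, hx, hy]
    | tmul m m' =>
      rw [hF, TensorProduct.lift.tmul, hG]
      exact hl m m'
  · apply TensorProduct.ext
    refine (h.hom_ext (Q := N' →ₗ[B] Q) fun m => ?_)
    refine h'.hom_ext fun m' => ?_
    change G' (f m ⊗ₜ f' m') = (TensorProduct.lift G) (f m ⊗ₜ f' m')
    rw [TensorProduct.lift.tmul, hG, ← hF, hG']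
    exact (hl m m').symm

end BC

section

variable {A : NFᵒᵖ ⥤ CommRingCat.{u}}

instance isMonoidal_isCart : (isCart A).IsMonoidal where
  prop_unit := by
    intro x z φ
    have h : IsBC (rg A φ) (rg A φ).toAddMonoidHom := by
      refine IsBC.of_lift (fun a m => by exact (rg A φ).map_mul a m) fun Q _ _ g hg => ?_
      refine ⟨LinearMap.toSpanSingleton _ Q (g 1), fun m => ?_, fun g' hg' => ?_⟩
      · have h1 := hg m 1
        rw [smul_eq_mul, mul_one] at h1
        exact h1.symm
      · ext
        rw [LinearMap.toSpanSingleton_apply, one_smul]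
        have h2 : g' (rg A φ 1) = g 1 := hg' 1
        rw [map_one] at h2
        exact h2
    exact h
  prop_tensor M N hM hN := by
    intro x z φ
    exact isBC_tensor (hM φ) (hN φ) _ fun m m' => rfl

/-- evaluation at any power -/
noncomputable abbrev ev (A : NFᵒᵖ ⥤ CommRingCat.{u}) (a : NF) : Comod A ⥤ ModuleCat.{u} (A.obj (op a)) :=
  (isCart A).ι ⋙ PresheafOfModules.evaluation (rf A) (op a)

/-- the evaluations are strong monoidal -/
noncomputable instance monoidal_vst : (vst A).Monoidal :=
  Functor.CoreMonoidal.toMonoidal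
    { εIso := Iso.refl _
      μIso := fun _ _ ↦ Iso.refl _
      associativity := fun X Y Z => by
        change 𝟙 _ ▷ _ ≫ 𝟙 _ ≫ (α_ ((vst A).obj X) ((vst A).obj Y) ((vst A).obj Z)).hom =
          (α_ ((vst A).obj X) ((vst A).obj Y) ((vst A).obj Z)).hom ≫ _ ◁ 𝟙 _ ≫ 𝟙 _
        simp
      left_unitality := fun X => by
        change _ = 𝟙 _ ▷ _ ≫ 𝟙 _ ≫ (λ_ ((vst A).obj X)).hom
        simp
      right_unitality := fun X => by
        change _ = _ ◁ 𝟙 _ ≫ 𝟙 _ ≫ (ρ_ ((vst A).obj X)).hom
        simp }

instance monoidalPreadditive_psh : MonoidalPreadditive (PresheafOfModules (rf A)) where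
  whiskerLeft_zero := by
    intros
    ext1 X
    exact MonoidalPreadditive.whiskerLeft_zero (C := ModuleCat (A.obj X))
  zero_whiskerRight := by
    intros
    ext1 X
    exact MonoidalPreadditive.zero_whiskerRight (C := ModuleCat (A.obj X))
  whiskerLeft_add := by
    intros
    ext1 X
    exact MonoidalPreadditive.whiskerLeft_add (C := ModuleCat (A.obj X)) _ _
  add_whiskerRight := by
    intros
    ext1 X
    exact MonoidalPreadditive.add_whiskerRight (C := ModuleCat (A.obj X)) _ _

/-! ## the tensor category `Comod A` -/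

noncomputable instance symmetricCategory : SymmetricCategory (Comod A) := inferInstance

instance monoidalPreadditive : MonoidalPreadditive (Comod A) := inferInstance

/-- `vst (M ⊗ N) = vst M ⊗ vst N` -/
theorem vst_tensorObj (M N : Comod A) : (vst A).obj (M ⊗ N) = (vst A).obj M ⊗ (vst A).obj N := rfl

theorem vst_tensorHom {M M' N N' : Comod A} (f : M ⟶ M') (g : N ⟶ N') :
    (vst A).map (f ⊗ₘ g) = (vst A).map f ⊗ₘ (vst A).map g := rfl

theorem vst_whiskerLeft (M : Comod A) {N N' : Comod A} (g : N ⟶ N') :
    (vst A).map (M ◁ g) = (vst A).obj M ◁ (vst A).map g := rfl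

theorem vst_whiskerRight {M M' : Comod A} (f : M ⟶ M') (N : Comod A) :
    (vst A).map (f ▷ N) = (vst A).map f ▷ (vst A).obj N := rfl

theorem vst_unit : (vst A).obj (𝟙_ (Comod A)) = 𝟙_ (ModuleCat.{u} (A.obj (op ⟨0⟩))) := rfl

/-- the tensor bifunctors correspond under `vst` -/
noncomputable def vstTensIso : curriedTensor (Comod A) ⋙ (Functor.whiskeringRight _ _ _).obj (vst A) ≅
    vst A ⋙ curriedTensor (ModuleCat.{u} (A.obj (op ⟨0⟩))) ⋙ (Functor.whiskeringLeft _ _ _).obj (vst A) :=
  Iso.refl _

section Colim

variable [hA : Fact (GR A)]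

instance preservesColimits_tensorLeft (F : Comod A) : PreservesColimitsOfSize.{u, u} (tensorLeft F) where
  preservesColimitsOfShape {J} _ := by
    have h1 : PreservesColimitsOfShape J (tensorLeft F ⋙ (isCart A).ι) :=
      inferInstanceAs (PreservesColimitsOfShape J ((isCart A).ι ⋙ tensorLeft F.obj))
    exact preservesColimitsOfShape_of_reflects_of_preserves (tensorLeft F) (isCart A).ι

instance preservesColimits_tensorRight (F : Comod A) : PreservesColimitsOfSize.{u, u} (tensorRight F) :=
  preservesColimits_of_natIso (BraidedCategory.tensorLeftIsoTensorRight F)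

instance preservesFiniteColimits_tensorLeft (F : Comod A) : PreservesFiniteColimits (tensorLeft F) :=
  PreservesColimitsOfSize.preservesFiniteColimits.{u} _

instance preservesFiniteColimits_tensorRight (F : Comod A) : PreservesFiniteColimits (tensorRight F) :=
  PreservesColimitsOfSize.preservesFiniteColimits.{u} _

/-- tensoring with a flat object is exact -/
theorem preservesFiniteLimits_tensorLeft (F : Comod A) (hF : Module.Flat (A.obj (op ⟨0⟩)) ((vst A).obj F)) :
    PreservesFiniteLimits (tensorLeft F) := by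
  have h0 : PreservesFiniteLimits (tensorLeft ((vst A).obj F)) := inferInstance
  have h1 : PreservesFiniteLimits (tensorLeft F ⋙ vst A) :=
    inferInstanceAs (PreservesFiniteLimits (vst A ⋙ tensorLeft ((vst A).obj F)))
  have h2 := Groth.Agent.ResProp.EF.K741.reflectsFiniteLimits_vst (A := A)
  exact ⟨fun J _ _ => preservesLimitsOfShape_of_reflects_of_preserves (tensorLeft F) (vst A)⟩

theorem preservesFiniteLimits_tensorRight (F : Comod A) (hF : Module.Flat (A.obj (op ⟨0⟩)) ((vst A).obj F)) :
    PreservesFiniteLimits (tensorRight F) := by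
  have := preservesFiniteLimits_tensorLeft F hF
  exact ⟨fun J _ _ => preservesLimitsOfShape_of_natIso (BraidedCategory.tensorLeftIsoTensorRight F)⟩

omit hA in
theorem flat_tensor (M N : Comod A) (hM : Module.Flat (A.obj (op ⟨0⟩)) ((vst A).obj M))
    (hN : Module.Flat (A.obj (op ⟨0⟩)) ((vst A).obj N)) : Module.Flat (A.obj (op ⟨0⟩)) ((vst A).obj (M ⊗ N)) :=
  inferInstanceAs (Module.Flat (A.obj (op ⟨0⟩)) (((vst A).obj M) ⊗[A.obj (op ⟨0⟩)] ((vst A).obj N)))

end Colim

end

end Groth.Agent.ResProp.EF.K911
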