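import Groth.Agent.PerfC.CxNat
import Groth.Agent.Dcoh.CxProj
import Mathlib.CategoryTheory.Monoidal.Functor
import Mathlib.CategoryTheory.Monoidal.Preadditive
import Mathlib.CategoryTheory.Adjunction.Additive
import Mathlib.CategoryTheory.Adjunction.Unique

/-!
# Projection formula, abstract (helper911)

`u : C ⥤ D` strong monoidal, `adj : u ⊣ v`.
* `tensIso u` : `u (M ⊗ N) ≅ u M ⊗ u N` as bifunctors; `tensCx u` the same for complexes;
* `projMap adj M N : M ⊗ v N ⟶ v (u M ⊗ N)`, natural in both (`projTrans`);
* `isIso_projMap_of_adj` : independent of the right adjoint;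
* `projCx` : if it is an isomorphism, `Ψ ⊗ v N ≅ v (u Ψ ⊗ N)` for complexes, natural in both.
-/

set_option autoImplicit false

open CategoryTheory CategoryTheory.Limits MonoidalCategory HomologicalComplex

universe v₁ v₂ u₁ u₂

namespace Groth.Agent.ResProp.EF.K911

open Groth.Agent.PerfC Functor.LaxMonoidal Functor.OplaxMonoidal

variable {C : Type u₁} [Category.{v₁} C] {D : Type u₂} [Category.{v₂} D] [MonoidalCategory C] [MonoidalCategory D]

section Tens

variable (u : C ⥤ D) [u.Monoidal]

/-- `u (M ⊗ N) ≅ u M ⊗ u N` -/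
noncomputable def tensIso : curriedTensor C ⋙ (Functor.whiskeringRight _ _ _).obj u ≅
    u ⋙ curriedTensor D ⋙ (Functor.whiskeringLeft _ _ _).obj u :=
  NatIso.ofComponents (fun M => NatIso.ofComponents (fun N => (Functor.Monoidal.μIso u M N).symm)
    (fun {N N'} g => by
      change u.map (M ◁ g) ≫ δ u M N' = δ u M N ≫ (u.obj M ◁ u.map g)
      simp))
    (fun {M M'} f => by
      ext N
      change u.map (f ▷ N) ≫ δ u M' N = δ u M N ≫ (u.map f ▷ u.obj N)
      simp)

@[simp]
lemma tensIso_hom_app_app (M N : C) : ((tensIso u).hom.app M).app N = δ u M N := rfl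

@[simp]
lemma tensIso_inv_app_app (M N : C) : ((tensIso u).inv.app M).app N = μ u M N := rfl

end Tens

section Proj

variable {u : C ⥤ D} [u.Monoidal] {v : D ⥤ C} (adj : u ⊣ v)

/-- the projection map -/
noncomputable def projMap (M : C) (N : D) : M ⊗ v.obj N ⟶ v.obj (u.obj M ⊗ N) :=
  adj.homEquiv _ _ (δ u M (v.obj N) ≫ u.obj M ◁ adj.counit.app N)

/-- characterization -/
@[reassoc]
lemma map_projMap (M : C) (N : D) :
    u.map (projMap adj M N) ≫ adj.counit.app (u.obj M ⊗ N) = δ u M (v.obj N) ≫ u.obj M ◁ adj.counit.app N := by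
  have h : u.map (projMap adj M N) ≫ adj.counit.app (u.obj M ⊗ N) = (adj.homEquiv _ _).symm (projMap adj M N) :=
    (adj.homEquiv_symm_apply _ _ _).symm
  rw [h, projMap, Equiv.symm_apply_apply]

omit [MonoidalCategory C] [MonoidalCategory D] [u.Monoidal] in
lemma hom_ext_proj {M : C} {N : D} {f g : M ⟶ v.obj N} (h : u.map f ≫ adj.counit.app N = u.map g ≫ adj.counit.app N) :
    f = g := by
  apply (adj.homEquiv M N).symm.injective
  rw [adj.homEquiv_symm_apply, adj.homEquiv_symm_apply]
  exact h

omit [MonoidalCategory C] [MonoidalCategory D] [u.Monoidal] in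
@[reassoc]
lemma counit_nat {N N' : D} (g : N ⟶ N') : u.map (v.map g) ≫ adj.counit.app N' = adj.counit.app N ≫ g :=
  adj.counit_naturality g

@[reassoc]
lemma projMap_nat₁ {M M' : C} (f : M ⟶ M') (N : D) :
    f ▷ v.obj N ≫ projMap adj M' N = projMap adj M N ≫ v.map (u.map f ▷ N) := by
  apply hom_ext_proj adj
  rw [Functor.map_comp, Category.assoc, map_projMap, Functor.map_comp, Category.assoc, counit_nat adj,
    map_projMap_assoc, ← Functor.OplaxMonoidal.δ_natural_left_assoc, whisker_exchange]

@[reassoc]
lemma projMap_nat₂ (M : C) {N N' : D} (g : N ⟶ N') :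
    M ◁ v.map g ≫ projMap adj M N' = projMap adj M N ≫ v.map (u.obj M ◁ g) := by
  apply hom_ext_proj adj
  rw [Functor.map_comp, Category.assoc, map_projMap, Functor.map_comp, Category.assoc, counit_nat adj,
    map_projMap_assoc, ← Functor.OplaxMonoidal.δ_natural_right_assoc, ← MonoidalCategory.whiskerLeft_comp,
    ← MonoidalCategory.whiskerLeft_comp, counit_nat adj]

/-- the projection map, natural in both variables -/
noncomputable def projTrans : curriedTensor C ⋙ (Functor.whiskeringLeft _ _ _).obj v ⟶
    (u ⋙ curriedTensor D) ⋙ (Functor.whiskeringRight _ _ _).obj v where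
  app M :=
    { app := fun N => projMap adj M N
      naturality := fun _ _ g => projMap_nat₂ adj M g }
  naturality M M' f := by
    ext N
    exact projMap_nat₁ adj f N

@[simp]
lemma projTrans_app_app (M : C) (N : D) : ((projTrans adj).app M).app N = projMap adj M N := rfl

/-- independence of the right adjoint -/
lemma projMap_of_adj {v' : D ⥤ C} (adj' : u ⊣ v') (M : C) (N : D) :
    projMap adj' M N = M ◁ ((adj'.rightAdjointUniq adj).hom.app N) ≫ projMap adj M N ≫
      (adj'.rightAdjointUniq adj).inv.app (u.obj M ⊗ N) := by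
  apply hom_ext_proj adj'
  have h2 : ∀ N : D, u.map ((adj'.rightAdjointUniq adj).inv.app N) ≫ adj'.counit.app N = adj.counit.app N := by
    intro N
    have := Adjunction.rightAdjointUniq_hom_app_counit adj adj' N
    rwa [← Adjunction.rightAdjointUniq_inv_app] at this
  have h1 : ∀ N : D, u.map ((adj'.rightAdjointUniq adj).hom.app N) ≫ adj.counit.app N = adj'.counit.app N := fun N =>
    Adjunction.rightAdjointUniq_hom_app_counit adj' adj N
  rw [map_projMap, Functor.map_comp, Functor.map_comp, Category.assoc, Category.assoc, h2, map_projMap,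
    ← h1 N, MonoidalCategory.whiskerLeft_comp, Functor.OplaxMonoidal.δ_natural_right_assoc]

lemma isIso_projMap_of_adj {v' : D ⥤ C} (adj' : u ⊣ v') (M : C) (N : D) [IsIso (projMap adj M N)] :
    IsIso (projMap adj' M N) := by
  rw [projMap_of_adj adj adj']
  infer_instance

/-- the criterion: `u` conservative -/
lemma isIso_projMap_of_map [u.ReflectsIsomorphisms] (M : C) (N : D) (h : IsIso (u.map (projMap adj M N))) :
    IsIso (projMap adj M N) := isIso_of_reflects_iso _ u

/-- the projection formula -/
noncomputable def projIso (h : ∀ M N, IsIso (projMap adj M N)) :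
    curriedTensor C ⋙ (Functor.whiskeringLeft _ _ _).obj v ≅
      (u ⋙ curriedTensor D) ⋙ (Functor.whiskeringRight _ _ _).obj v :=
  haveI : ∀ M, IsIso ((projTrans adj).app M) := fun M =>
    haveI : ∀ N, IsIso (((projTrans adj).app M).app N) := fun N => h M N
    NatIso.isIso_of_isIso_app _
  haveI : IsIso (projTrans adj) := NatIso.isIso_of_isIso_app _
  asIso (projTrans adj)

end Proj

end Groth.Agent.ResProp.EF.K911
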