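import Groth.Agent.ResProp.EF.K911.ProjAbs

/-!
# Projection formula on complexes, abstract (helper911)

`tensCx u` : `u (K ⊗ L) ≅ u K ⊗ u L`; `projCx adj h` : `K ⊗ v N ≅ v (u K ⊗ N)`, natural in both variables.
-/

set_option autoImplicit false

open CategoryTheory CategoryTheory.Limits MonoidalCategory HomologicalComplex

universe v₁ v₂ v₃ v₄ u₁ u₂ u₃ u₄

namespace Groth.Agent.ResProp.EF.K911

open Groth.Agent.PerfC Functor.LaxMonoidal Functor.OplaxMonoidal

section Whisk

variable {A : Type u₁} [Category.{v₁} A] [Preadditive A] {A' : Type u₂} [Category.{v₂} A'] [Preadditive A']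
  {B : Type u₃} [Category.{v₃} B] [Preadditive B] {C : Type u₄} [Category.{v₄} C] [Preadditive C]
  (G : A ⥤ A') [G.Additive] (F : A' ⥤ B ⥤ C) [F.Additive] [∀ X, (F.obj X).Additive]
  [∀ (K₁ : CochainComplex A' ℤ) (K₂ : CochainComplex B ℤ), CochainComplex.HasMapBifunctor K₁ K₂ F]

instance additive_whisk₁_obj (a : A) : ((G ⋙ F).obj a).Additive :=
  inferInstanceAs (F.obj (G.obj a)).Additive

instance hasMapBifunctor_whisk₁ (K₁ : CochainComplex A ℤ) (K₂ : CochainComplex B ℤ) :
    CochainComplex.HasMapBifunctor K₁ K₂ (G ⋙ F) :=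
  inferInstanceAs (CochainComplex.HasMapBifunctor ((G.mapHomologicalComplex (ComplexShape.up ℤ)).obj K₁) K₂ F)

/-- `F (G K, L)` -/
noncomputable def whiskIso₁ : (G ⋙ F).map₂CochainComplex ≅
    G.mapHomologicalComplex (ComplexShape.up ℤ) ⋙ F.map₂CochainComplex :=
  NatIso.ofComponents (fun K => NatIso.ofComponents (fun L => Iso.refl _)
    (fun {L L'} g => by
      refine (Category.comp_id _).trans (Eq.trans ?_ (Category.id_comp _).symm)
      ext n
      refine HomologicalComplex.mapBifunctor.hom_ext (fun p q h => ?_)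
      refine (HomologicalComplex.ι_mapBifunctorMap (𝟙 K) g (G ⋙ F) (ComplexShape.up ℤ) p q n h).trans (Eq.trans ?_
        (HomologicalComplex.ι_mapBifunctorMap (𝟙 ((G.mapHomologicalComplex (ComplexShape.up ℤ)).obj K)) g F
          (ComplexShape.up ℤ) p q n h).symm)
      change (F.map (G.map (𝟙 (K.X p)))).app (L.X q) ≫ (F.obj (G.obj (K.X p))).map (g.f q) ≫ _ =
        (F.map (𝟙 (G.obj (K.X p)))).app (L.X q) ≫ (F.obj (G.obj (K.X p))).map (g.f q) ≫ _
      rw [G.map_id]
      rfl))
    (fun {K K'} f => by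
      ext1; ext1 L
      refine (Category.comp_id _).trans (Eq.trans ?_ (Category.id_comp _).symm)
      rfl)

end Whisk

variable {C : Type u₁} [Category.{v₁} C] {D : Type u₂} [Category.{v₂} D] [MonoidalCategory C] [MonoidalCategory D]
  [Preadditive C] [Preadditive D] [MonoidalPreadditive C] [MonoidalPreadditive D]
  [∀ K₁ K₂ : CochainComplex C ℤ, CochainComplex.HasMapBifunctor K₁ K₂ (curriedTensor C)]
  [∀ K₁ K₂ : CochainComplex D ℤ, CochainComplex.HasMapBifunctor K₁ K₂ (curriedTensor D)]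

section Tens

variable (u : C ⥤ D) [u.Monoidal] [u.Additive] [∀ J : Type, PreservesColimitsOfShape (Discrete J) u]

/-- `u (K ⊗ L) ≅ u K ⊗ u L` -/
noncomputable def tensCx : (curriedTensor C).map₂CochainComplex ⋙
      (Functor.whiskeringRight _ _ _).obj (u.mapHomologicalComplex (ComplexShape.up ℤ)) ≅
    u.mapHomologicalComplex (ComplexShape.up ℤ) ⋙ (curriedTensor D).map₂CochainComplex ⋙
      (Functor.whiskeringLeft _ _ _).obj (u.mapHomologicalComplex (ComplexShape.up ℤ)) :=
  CxNat.natIso (tensIso u)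

end Tens

section Proj

variable {u : C ⥤ D} [u.Monoidal] [u.Additive] {v : D ⥤ C} [v.Additive] (adj : u ⊣ v)
  [∀ J : Type, PreservesColimitsOfShape (Discrete J) v]

/-- `K ⊗ v N ≅ v (u K ⊗ N)` -/
noncomputable def projCx (h : ∀ M N, IsIso (projMap adj M N)) :
    (curriedTensor C).map₂CochainComplex ⋙
      (Functor.whiskeringLeft _ _ _).obj (v.mapHomologicalComplex (ComplexShape.up ℤ)) ≅
    (u.mapHomologicalComplex (ComplexShape.up ℤ) ⋙ (curriedTensor D).map₂CochainComplex) ⋙
      (Functor.whiskeringRight _ _ _).obj (v.mapHomologicalComplex (ComplexShape.up ℤ)) :=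
  (Functor.leftUnitor _).symm ≪≫
    Functor.isoWhiskerRight (Functor.mapHomologicalComplexIdIso C (ComplexShape.up ℤ)).symm _ ≪≫
    (CxNat.natIso (F := u ⋙ curriedTensor D) (F' := curriedTensor C) (Φ₁ := 𝟭 C) (Φ₂ := v) (Φ₃ := v)
      ((projIso adj h).symm ≪≫ (Functor.leftUnitor _).symm)).symm ≪≫
    Functor.isoWhiskerRight (whiskIso₁ u (curriedTensor D)) _

end Proj

end Groth.Agent.ResProp.EF.K911
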