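import Groth.Agent.ResProp.EF.K911.Mon
import Groth.Agent.ResProp.EF.K911.ProjCx
import Groth.Agent.ResProp.EF.K741.Proj
import Groth.Agent.ResProp.EF.K554.PushAdj

/-!
# The projection formula for `vst A ⊣ v_*` on `Comod A` (helper911; the bijectivity is helper741's)
-/

set_option autoImplicit false
set_option linter.dupNamespace false
set_option linter.style.haveILetI false

open CategoryTheory CategoryTheory.Limits Opposite TensorProduct MonoidalCategory

namespace Groth.Agent.ResProp.EF.K911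

open EF56 K784.BC K784.PM K741.RP Groth.Agent.ResProp.EF.K554 Groth.Agent.ResProp.EF.K741

universe w v v₁ u₁ u

section

variable {𝒞 : Type u₁} [Category.{v₁} 𝒞] {A : 𝒞ᵒᵖ ⥤ CommRingCat.{u}} {x₀ : 𝒞} (D : PD A x₀)
  {N : ModuleCat.{u} (A.obj (op x₀))} {M M' : PM.{u} A}

/-- naturality of the transpose in the source -/
theorem toPf_comp_nat (hM : M.Cart) (hM' : M'.Cart) (e : ∀ z, M.obj z →ₗ[A.obj (op z)] M'.obj z)
    (he : ∀ ⦃x z : 𝒞⦄ (φ : x ⟶ z) (m : M.obj z), e x (M.map φ m) = M'.map φ (e z m))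
    (f : M'.obj x₀ →ₗ[A.obj (op x₀)] N) (z : 𝒞) (m : M.obj z) :
    toPf D hM (f.comp (e x₀)) z m = toPf D hM' f z (e z m) := by
  have h1 : (th hM' f (D.b z)).comp (e (D.w z)) = th hM (f.comp (e x₀)) (D.b z) := by
    refine eq_th hM _ _ _ fun m => ?_
    change th hM' f (D.b z) (e (D.w z) (M.map (D.b z) m)) = _
    rw [he, th_map]
    rfl
  change th hM (f.comp (e x₀)) (D.b z) (M.map (D.π z) m) = th hM' f (D.b z) (M'.map (D.π z) (e z m))
  rw [← h1, ← he]
  rfl

end

variable {A : NFᵒᵖ ⥤ CommRingCat.{u}} (h : GR A)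

/-- the two tensor products -/
noncomputable def idPM (M K : PresheafOfModules.{u} (rf A)) (z : NF) :
    (toPM (M ⊗ K)).obj z →ₗ[A.obj (op z)] (tenPM (toPM M) (toPM K)).obj z :=
  LinearMap.id (M := (M.obj (op z) : Type u) ⊗[A.obj (op z)] (K.obj (op z) : Type u))

theorem idPM_map (M K : PresheafOfModules.{u} (rf A)) ⦃x z : NF⦄ (φ : x ⟶ z) (m : (toPM (M ⊗ K)).obj z) :
    idPM M K x ((toPM (M ⊗ K)).map φ m) = (tenPM (toPM M) (toPM K)).map φ (idPM M K z m) := by
  induction m using TensorProduct.induction_on with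
  | zero => exact (congrArg (idPM M K x) (map_zero ((toPM (M ⊗ K)).map φ))).trans ((map_zero (idPM M K x)).trans
      (((congrArg _ (map_zero (idPM M K z))).trans (map_zero ((tenPM (toPM M) (toPM K)).map φ))).symm))
  | tmul a b => rfl
  | add a b ha hb =>
    refine (congrArg (idPM M K x) (map_add ((toPM (M ⊗ K)).map φ) a b)).trans ((map_add (idPM M K x) _ _).trans ?_)
    refine Eq.trans ?_ ((congrArg _ (map_add (idPM M K z) a b)).trans (map_add ((tenPM (toPM M) (toPM K)).map φ) _ _)).symm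
    exact congrArg₂ (· + ·) ha hb

theorem homEquiv_pstAdj (M : Comod A) (N : ModuleCat.{u} (A.obj (op ⟨0⟩))) : (pstAdj h).homEquiv M N = pstEquiv h M N := by
  rw [pstAdj, Adjunction.mkOfHomEquiv_homEquiv]

theorem counit_hom (M : Comod A) (N : ModuleCat.{u} (A.obj (op ⟨0⟩))) :
    (Functor.OplaxMonoidal.δ (vst A) M ((pst h).obj N) ≫ (vst A).obj M ◁ (pstAdj h).counit.app N).hom =
      (cou h.pd N (toPM M.obj)).comp (idPM M.obj ((pst h).obj N).obj ⟨0⟩) := by
  apply TensorProduct.ext'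
  intro m v
  rfl

theorem bijective_proj_comod (M : Comod A) (N : ModuleCat.{u} (A.obj (op ⟨0⟩))) :
    Function.Bijective ((vst A).map (projMap (pstAdj h) M N)).hom := by
  have hT : (tenPM (toPM M.obj) (pf h.pd N)).Cart := tenPM_cart M.2 (pf_cart h.pd N)
  have h1 := bijective_proj h.pd N (M := toPM M.obj) M.2 hT ⟨0⟩
  have h2 : ∀ m : (toPM (M ⊗ (pst h).obj N).obj).obj ⟨0⟩,
      toPf h.pd (M := toPM (M ⊗ (pst h).obj N).obj) (M ⊗ (pst h).obj N).2
        ((cou h.pd N (toPM M.obj)).comp (idPM M.obj ((pst h).obj N).obj ⟨0⟩)) ⟨0⟩ m =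
      toPf h.pd hT (cou h.pd N (toPM M.obj)) ⟨0⟩ (idPM M.obj ((pst h).obj N).obj ⟨0⟩ m) := fun m =>
    toPf_comp_nat h.pd (M ⊗ (pst h).obj N).2 hT (idPM M.obj ((pst h).obj N).obj)
      (idPM_map M.obj ((pst h).obj N).obj) (cou h.pd N (toPM M.obj)) ⟨0⟩ m
  have h3 : (fun m => ((vst A).map (projMap (pstAdj h) M N)).hom m) = fun m =>
      toPf h.pd hT (cou h.pd N (toPM M.obj)) ⟨0⟩ (idPM M.obj ((pst h).obj N).obj ⟨0⟩ m) := by
    funext m
    refine Eq.trans ?_ (h2 m)
    rw [projMap, homEquiv_pstAdj, ← counit_hom]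
    rfl
  have h4 : Function.Bijective (fun m => ((vst A).map (projMap (pstAdj h) M N)).hom m) := by
    rw [h3]
    exact h1.comp Function.bijective_id
  exact h4

end Groth.Agent.ResProp.EF.K911
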