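import Groth.Agent.ResProp.EF.K911.TChart
import Groth.Agent.ResProp.EF.X56.ChartF

/-!
# The tensor product on `EF56.chartF A` (helper911)
-/

set_option autoImplicit false
set_option linter.dupNamespace false

open CategoryTheory Opposite MonoidalCategory

namespace Groth.Agent.ResProp.EF.K911

open EF56 Groth.Agent.ResProp.EF.K294

universe u

/-- the chart `chartF A` has a tensor product with projection formula -/
noncomputable def tchartF (A : NFᵒᵖ ⥤ CommRingCat.{u}) [hA : Fact (GR A)] : TChart (chartF A) := comodTChart hA.out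

theorem tchartF_TC (A : NFᵒᵖ ⥤ CommRingCat.{u}) [Fact (GR A)] : (tchartF A).TC = curriedTensor (Comod A) := rfl

theorem tchartF_TC_obj (A : NFᵒᵖ ⥤ CommRingCat.{u}) [Fact (GR A)] (M N : Comod A) :
    ((tchartF A).TC.obj M).obj N = M ⊗ N := rfl

end Groth.Agent.ResProp.EF.K911
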